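import Cfsg.Agent.Lib.A8Iso

set_option autoImplicit false

open Cfsg

namespace Cfsg.Agent.Lib.A8Code

theorem rad0 (hO : pPrimeCore 2 ↥(Lk 0) = ⊥) (hO2 : pCore 2 ↥(Lk 0) = ⊥) : False :=
  rad_false (k := 0) (p := 5) (Wd := [0, 1, 9, 73, 585]) (by norm_num) (by norm_num) (by decide +kernel) hO hO2

theorem rad1 (hO : pPrimeCore 2 ↥(Lk 1) = ⊥) (hO2 : pCore 2 ↥(Lk 1) = ⊥) : False :=
  rad_false (k := 1) (p := 7) (Wd := [0, 1, 9, 73, 585, 4681, 37449]) (by norm_num) (by norm_num) (by decide +kernel) hO hO2

theorem rad2 (hO : pPrimeCore 2 ↥(Lk 2) = ⊥) (hO2 : pCore 2 ↥(Lk 2) = ⊥) : False :=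
  rad_false (k := 2) (p := 5) (Wd := [0, 1, 9, 73, 138]) (by norm_num) (by norm_num) (by decide +kernel) hO hO2

theorem rad3 (hO : pPrimeCore 2 ↥(Lk 3) = ⊥) (hO2 : pCore 2 ↥(Lk 3) = ⊥) : False :=
  rad_false (k := 3) (p := 3) (Wd := [0, 4690, 4682]) (by norm_num) (by norm_num) (by decide +kernel) hO hO2

theorem rad4 (hO : pPrimeCore 2 ↥(Lk 4) = ⊥) (hO2 : pCore 2 ↥(Lk 4) = ⊥) : False :=
  rad_false (k := 4) (p := 5) (Wd := [0, 1, 9, 73, 585]) (by norm_num) (by norm_num) (by decide +kernel) hO hO2

theorem rad5 (hO : pPrimeCore 2 ↥(Lk 5) = ⊥) (hO2 : pCore 2 ↥(Lk 5) = ⊥) : False :=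
  rad_false (k := 5) (p := 5) (Wd := [0, 1, 9, 73, 585]) (by norm_num) (by norm_num) (by decide +kernel) hO hO2

theorem rad6 (hO : pPrimeCore 2 ↥(Lk 6) = ⊥) (hO2 : pCore 2 ↥(Lk 6) = ⊥) : False :=
  rad_false (k := 6) (p := 5) (Wd := [0, 1, 9, 73, 585]) (by norm_num) (by norm_num) (by decide +kernel) hO hO2

theorem rad7 (hO : pPrimeCore 2 ↥(Lk 7) = ⊥) (hO2 : pCore 2 ↥(Lk 7) = ⊥) : False :=
  rad_false (k := 7) (p := 7) (Wd := [0, 1, 9, 73, 585, 4681, 8842]) (by norm_num) (by norm_num) (by decide +kernel) hO hO2

theorem rad8 (hO : pPrimeCore 2 ↥(Lk 8) = ⊥) (hO2 : pCore 2 ↥(Lk 8) = ⊥) : False :=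
  rad_false (k := 8) (p := 3) (Wd := [0, 18, 1170]) (by norm_num) (by norm_num) (by decide +kernel) hO hO2

theorem rad9 (hO : pPrimeCore 2 ↥(Lk 9) = ⊥) (hO2 : pCore 2 ↥(Lk 9) = ⊥) : False :=
  rad_false (k := 9) (p := 2) (Wd := [0, 5257, 4690, 1169, 1106, 658, 1162, 8785]) (by norm_num) (by norm_num) (by decide +kernel) hO hO2

theorem rad10 (hO : pPrimeCore 2 ↥(Lk 10) = ⊥) (hO2 : pCore 2 ↥(Lk 10) = ⊥) : False :=
  rad_false (k := 10) (p := 2) (Wd := [0, 2396753, 2400841, 2658889, 2397257, 2396809, 2, 2429513]) (by norm_num) (by norm_num) (by decide +kernel) hO hO2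

theorem rad11 (hO : pPrimeCore 2 ↥(Lk 11) = ⊥) (hO2 : pCore 2 ↥(Lk 11) = ⊥) : False :=
  rad_false (k := 11) (p := 3) (Wd := [0, 1235, 1690]) (by norm_num) (by norm_num) (by decide +kernel) hO hO2

theorem rad23 (hO : pPrimeCore 2 ↥(Lk 23) = ⊥) (hO2 : pCore 2 ↥(Lk 23) = ⊥) : False :=
  rad_false (k := 23) (p := 2) (Wd := [0, 561802, 146, 303761, 70737, 41610, 332937, 300114]) (by norm_num) (by norm_num) (by decide +kernel) hO hO2

theorem rad25 (hO : pPrimeCore 2 ↥(Lk 25) = ⊥) (hO2 : pCore 2 ↥(Lk 25) = ⊥) : False :=
  rad_false (k := 25) (p := 2) (Wd := [0, 70737, 2433617, 2401354, 146, 35951249, 41610, 21271122]) (by norm_num) (by norm_num) (by decide +kernel) hO hO2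

theorem rad27 (hO : pPrimeCore 2 ↥(Lk 27) = ⊥) (hO2 : pCore 2 ↥(Lk 27) = ⊥) : False :=
  rad_false (k := 27) (p := 3) (Wd := [0, 42066, 19469394]) (by norm_num) (by norm_num) (by decide +kernel) hO hO2

theorem rad28 (hO : pPrimeCore 2 ↥(Lk 28) = ⊥) (hO2 : pCore 2 ↥(Lk 28) = ⊥) : False :=
  rad_false (k := 28) (p := 3) (Wd := [0, 46683, 570963]) (by norm_num) (by norm_num) (by decide +kernel) hO hO2

theorem rad35 (hO : pPrimeCore 2 ↥(Lk 35) = ⊥) (hO2 : pCore 2 ↥(Lk 35) = ⊥) : False :=
  rad_false (k := 35) (p := 2) (Wd := [0, 10907620434, 155521682, 70737, 287875666, 304419914, 306487945, 41610]) (by norm_num) (by norm_num) (by decide +kernel) hO hO2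

theorem rad36 (hO : pPrimeCore 2 ↥(Lk 36) = ⊥) (hO2 : pCore 2 ↥(Lk 36) = ⊥) : False :=
  rad_false (k := 36) (p := 2) (Wd := [0, 38081618, 153686610, 170169417, 153424458, 70737, 155751057, 41610]) (by norm_num) (by norm_num) (by decide +kernel) hO hO2

theorem conj12 : Nonempty (↥(Lk 12) ≃* ↥(Lk 41)) :=
  conj_iso (s := 16434824) (by norm_num) (by norm_num) (by decide +kernel) (by decide +kernel)
    (by decide +kernel) (by decide +kernel)

theorem conj13 : Nonempty (↥(Lk 13) ≃* ↥(Lk 47)) :=
  conj_iso (s := 16434824) (by norm_num) (by norm_num) (by decide +kernel) (by decide +kernel)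
    (by decide +kernel) (by decide +kernel)

theorem conj14 : Nonempty (↥(Lk 14) ≃* ↥(Lk 47)) :=
  conj_iso (s := 16205448) (by norm_num) (by norm_num) (by decide +kernel) (by decide +kernel)
    (by decide +kernel) (by decide +kernel)

theorem conj15 : Nonempty (↥(Lk 15) ≃* ↥(Lk 47)) :=
  conj_iso (s := 12535432) (by norm_num) (by norm_num) (by decide +kernel) (by decide +kernel)
    (by decide +kernel) (by decide +kernel)

theorem conj16 : Nonempty (↥(Lk 16) ≃* ↥(Lk 44)) :=
  conj_iso (s := 14141064) (by norm_num) (by norm_num) (by decide +kernel) (by decide +kernel)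
    (by decide +kernel) (by decide +kernel)

theorem conj17 : Nonempty (↥(Lk 17) ≃* ↥(Lk 44)) :=
  conj_iso (s := 16434824) (by norm_num) (by norm_num) (by decide +kernel) (by decide +kernel)
    (by decide +kernel) (by decide +kernel)

theorem conj18 : Nonempty (↥(Lk 18) ≃* ↥(Lk 44)) :=
  conj_iso (s := 14599816) (by norm_num) (by norm_num) (by decide +kernel) (by decide +kernel)
    (by decide +kernel) (by decide +kernel)

theorem conj19 : Nonempty (↥(Lk 19) ≃* ↥(Lk 48)) :=
  conj_iso (s := 16434824) (by norm_num) (by norm_num) (by decide +kernel) (by decide +kernel)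
    (by decide +kernel) (by decide +kernel)

theorem conj20 : Nonempty (↥(Lk 20) ≃* ↥(Lk 48)) :=
  conj_iso (s := 16205448) (by norm_num) (by norm_num) (by decide +kernel) (by decide +kernel)
    (by decide +kernel) (by decide +kernel)

theorem conj21 : Nonempty (↥(Lk 21) ≃* ↥(Lk 48)) :=
  conj_iso (s := 12535432) (by norm_num) (by norm_num) (by decide +kernel) (by decide +kernel)
    (by decide +kernel) (by decide +kernel)

theorem conj22 : Nonempty (↥(Lk 22) ≃* ↥(Lk 46)) :=
  conj_iso (s := 1702673) (by norm_num) (by norm_num) (by decide +kernel) (by decide +kernel)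
    (by decide +kernel) (by decide +kernel)

theorem conj24 : Nonempty (↥(Lk 24) ≃* ↥(Lk 46)) :=
  conj_iso (s := 1566481) (by norm_num) (by norm_num) (by decide +kernel) (by decide +kernel)
    (by decide +kernel) (by decide +kernel)

theorem conj26 : Nonempty (↥(Lk 26) ≃* ↥(Lk 49)) :=
  conj_iso (s := 16434824) (by norm_num) (by norm_num) (by decide +kernel) (by decide +kernel)
    (by decide +kernel) (by decide +kernel)

theorem conj29 : Nonempty (↥(Lk 29) ≃* ↥(Lk 42)) :=
  conj_iso (s := 16434824) (by norm_num) (by norm_num) (by decide +kernel) (by decide +kernel)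
    (by decide +kernel) (by decide +kernel)

theorem conj30 : Nonempty (↥(Lk 30) ≃* ↥(Lk 42)) :=
  conj_iso (s := 16205448) (by norm_num) (by norm_num) (by decide +kernel) (by decide +kernel)
    (by decide +kernel) (by decide +kernel)

theorem conj31 : Nonempty (↥(Lk 31) ≃* ↥(Lk 42)) :=
  conj_iso (s := 12535432) (by norm_num) (by norm_num) (by decide +kernel) (by decide +kernel)
    (by decide +kernel) (by decide +kernel)

theorem conj32 : Nonempty (↥(Lk 32) ≃* ↥(Lk 45)) :=
  conj_iso (s := 16434824) (by norm_num) (by norm_num) (by decide +kernel) (by decide +kernel)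
    (by decide +kernel) (by decide +kernel)

theorem conj33 : Nonempty (↥(Lk 33) ≃* ↥(Lk 45)) :=
  conj_iso (s := 16205448) (by norm_num) (by norm_num) (by decide +kernel) (by decide +kernel)
    (by decide +kernel) (by decide +kernel)

theorem conj34 : Nonempty (↥(Lk 34) ≃* ↥(Lk 45)) :=
  conj_iso (s := 12535432) (by norm_num) (by norm_num) (by decide +kernel) (by decide +kernel)
    (by decide +kernel) (by decide +kernel)

theorem conj37 : Nonempty (↥(Lk 37) ≃* ↥(Lk 43)) :=
  conj_iso (s := 16434824) (by norm_num) (by norm_num) (by decide +kernel) (by decide +kernel)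
    (by decide +kernel) (by decide +kernel)

theorem conj38 : Nonempty (↥(Lk 38) ≃* ↥(Lk 43)) :=
  conj_iso (s := 14599816) (by norm_num) (by norm_num) (by decide +kernel) (by decide +kernel)
    (by decide +kernel) (by decide +kernel)

theorem conj39 : Nonempty (↥(Lk 39) ≃* ↥(Lk 43)) :=
  conj_iso (s := 14141064) (by norm_num) (by norm_num) (by decide +kernel) (by decide +kernel)
    (by decide +kernel) (by decide +kernel)

def R47 : List (ℕ × ℕ) := [(16258725, 16421027), (16259859, 16433354), (16262764, 16417555), (16263499, 16425668), (16266082, 16426592), (16266537, 16434705), (16270541, 16431233), (16271962, 16418906), (16274132, 16430344), (16275609, 16421916), (16287509, 16425052), (16288419, 16429329), (16296133, 16434754), (16296476, 16418465), (16298324, 16423064), (16300200, 16431114), (16303427, 16422147), (16303658, 16417996), (16306402, 16433872), (16307480, 16425507), (16320332, 16433690), (16320619, 16429728), (16324637, 16422672), (16325316, 16426508), (16331021, 16418073), (16333408, 16430148), (16335081, 16425185), (16335704, 16433235), (16339715, 16418955), (16340513,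 16423106), (16352042, 16422532), (16352609, 16418570), (16355500, 16427075), (16357712, 16419025), (16359525, 16434187), (16362248, 16422112), (16368149, 16429588), (16370305, 16425752), (16372748, 16429154), (16373826, 16433305), (16385117, 16427208), (16386762, 16422931), (16389163, 16434264), (16389954, 16430113), (16392537, 16429196), (16392936, 16421146), (16396933, 16417506), (16398865, 16433795), (16404619, 16418388), (16406096, 16426753), (16417436, 16434369), (16419025, 16417891), (16421146, 16429826), (16422112, 16417436), (16425507, 16427033), (16426753, 16431184), (16430148, 16421076), (16431114, 16425227), (16433235, 16422434), (16434824, 16434824)]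

theorem graph47 : Nonempty (↥(Lk 47) ≃* ↥(Lk 41)) :=
  graph_iso (by norm_num) (by norm_num) (R := R47) (by decide +kernel) (by decide +kernel)
    (by decide +kernel)

def R48 : List (ℕ × ℕ) := [(14423388, 16193562), (14424298, 16188508), (14426909, 16193184), (14428897, 16195683), (14432341, 16205000), (14432908, 16199946), (14434987, 16189201), (14436177, 16204307), (14439523, 16197825), (14440202, 16200324), (14451948, 16204440), (14453082, 16195865), (14459179, 16205322), (14460768, 16188683), (14464037, 16188116), (14465794, 16201745), (14467229, 16197188), (14469840, 16193667), (14472836, 16200800), (14473235, 16191714), (14484197, 16200226), (14486297, 16188641), (14487907, 16201864), (14489384, 16195788), (14496300, 16196355), (14498113, 16205441), (14501445, 16203866), (14502411, 16192792), (14504028, 16189523), (14506184, 16193044), (14518413, 16197643), (14518868, 16189068), (14521605, 16191763), (14522914, 16205392), (14525252, 16192708), (14526505, 16201794), (14532938, 16196320), (14533736, 16199841), (14536977, 16188186), (14537376, 16204825), (14549843, 16199764), (14550697,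 16193744), (14553301, 16200961), (14555800, 16204482), (14558733, 16189593), (14559811, 16196124), (14561386, 16192547), (14562632, 16189026), (14570010, 16203915), (14570689, 16197384), (14583051, 16204867), (14583394, 16193282), (14587412, 16197153), (14588035, 16188067), (14590156, 16203985), (14592088, 16200464), (14594209, 16191644), (14594832, 16197720), (14598850, 16189642), (14599193, 16200716), (16258725, 16425752), (16259859, 16433305), (16262764, 16417506), (16263499, 16430113), (16266082, 16426508), (16266537, 16418955), (16270541, 16431184), (16271962, 16421076), (16274132, 16434754), (16275609, 16422147), (16287509, 16421916), (16288419, 16418906), (16296133, 16429196), (16296476, 16427208), (16298324, 16422672), (16300200, 16433235), (16303427, 16429826), (16303658, 16434369), (16306402, 16418465), (16307480, 16425507), (16320332, 16421027), (16320619, 16426592), (16324637, 16418570), (16325316, 16434187), (16331021, 16423106), (16333408, 16430148), (16335081, 16427033), (16335704, 16417436), (16339715, 16433872), (16340513, 16429329), (16352042, 16430344), (16352609, 16433354),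 (16355500, 16429588), (16357712, 16419025), (16359525, 16433795), (16362248, 16426753), (16368149, 16417891), (16370305, 16422434), (16372748, 16425052), (16373826, 16423064), (16385117, 16434705), (16386762, 16417555), (16389163, 16422532), (16389954, 16427075), (16392537, 16434264), (16392936, 16421146), (16396933, 16425185), (16398865, 16429728), (16404619, 16417996), (16406096, 16431114), (16417436, 16431233), (16419025, 16425668), (16421146, 16429154), (16422112, 16422112), (16425507, 16422931), (16426753, 16418388), (16430148, 16418073), (16431114, 16433690), (16433235, 16425227), (16434824, 16434824)]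

theorem graph48 : Nonempty (↥(Lk 48) ≃* ↥(Lk 44)) :=
  graph_iso (by norm_num) (by norm_num) (R := R48) (by decide +kernel) (by decide +kernel)
    (by decide +kernel)

def R49 : List (ℕ × ℕ) := [(380282, 6154344), (414967, 7917224), (442134, 3243240), (571823, 9926280), (650853, 14498568), (727804, 5136264), (945105, 3814776), (1012522, 9350264), (1033613, 11069240), (1139551, 15120560), (1222585, 5478256), (1269387, 11355120), (1392076, 10876320), (1439921, 8332128), (1549030, 13278944), (1628130, 14140504), (1766492, 15772568), (1808723, 2841048), (1886878, 16147152), (1906485, 6806800), (1977451, 10066896), (2189803, 3272360), (2324133, 7960680), (2337692, 6081768), (2773435, 15637664), (2811655, 10840032), (2838360, 6009696), (2895165, 16205392), (2968119, 13679568), (3018414, 3135888), (3175795, 14054040), (3313114, 4677400), (3397142, 10296216), (3436244, 9954504), (3507623, 6970824), (3618874, 16362248), (3785173, 9092720), (3832514, 11334960), (3913000, 4073328), (4021472, 7542136), (4041030, 11125688), (4108468, 13019384), (4346846, 14571144), (4390155, 9781128), (4441969,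 5208840), (4487406, 10992800), (4557812, 5937120), (4701221, 15557472), (5005217, 15062320), (5169724, 7742448), (5179727, 9149168), (5288318, 7400120), (5364807, 3758328), (5414640, 5622904), (5568388, 3356136), (5706211, 15255464), (5761112, 13609064), (5786235, 6748560), (5803805, 13737808), (5903919, 12534480), (6152489, 12103448), (6175624, 10413144), (6243013, 2784600), (6347964, 11156600), (6365030, 3843896), (6465655, 9233784), (6743520, 3099600), (6779220, 13882960), (6805890, 16038288), (6880048, 9032688), (6954437, 15084272), (7061614, 7836976), (7347095, 14526792), (7401002, 6999944), (7537789, 11760840), (7685048, 12130776), (7757967, 4705624), (7810817, 15917720), (7873516, 8219232), (7960589, 5824224), (8096417, 3538080), (8148238, 6239016), (8258418, 8746920), (8309777, 13508264), (8435189, 11507888), (8518230, 15026032), (8625386, 5420016), (8741117, 10441368), (8761256, 4619160), (8862343, 13967128), (8942493, 3787448), (9111529, 5564664), (9169419, 7429240), (9272641, 14599368), (9347534, 7043400), (9425584, 11644808), (9705150, 10010448), (9743391, 3079440), (9768563,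 12478032), (9977674, 8001000), (10081337, 8891624), (10126039, 15328040), (10282832, 15521184), (10392963, 13351520), (10440794, 3614688), (10538899, 10956512), (10643066, 13235040), (10687775, 8295840), (10831814, 9809352), (10910872, 7072520), (10985779, 16405704), (11029711, 3385256), (11109182, 13420008), (11157041, 15415400), (11278834, 15801688), (11334694, 4647384), (11504724, 12305048), (11661706, 3043152), (11744208, 12369168), (11789505, 10155600), (12101880, 12932920), (12136551, 5649336), (12164740, 9378488), (12346019, 5307120), (12388761, 7687792), (12527116, 4053168), (12663609, 2870168), (12698287, 15946840), (12725965, 13937112), (12855143, 11415152), (12934684, 8976240), (13011131, 4109616), (13228488, 13824720), (13299937, 12425616), (13349700, 6770512), (13422871, 5896800), (13505912, 3501792), (13553218, 8182944), (13675459, 8102696), (13727336, 15342824), (13865117, 8775144), (13911513, 9262008), (14053907, 5707576), (14124810, 12991160), (14432341, 5164488), (14451948, 16333128), (14522914, 11789960), (14804300, 16096528), (14857122, 10212048), (14899409, 6712272),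 (14969626, 11213048), (15075221, 7513016), (15156267, 12961144), (15226484, 2813720), (15240547, 10267992), (15374366, 12219480), (15526021, 6166440), (15536556, 13464360), (15673952, 8863400), (15744169, 13162464), (15796942, 15673952), (15835701, 3650976), (16040178, 4016880), (16096528, 7665840), (16135238, 5365360), (16339715, 5237064), (16392537, 11615688), (16434824, 16434824)]

theorem graph49 : Nonempty (↥(Lk 49) ≃* ↥(Lk 46)) :=
  graph_iso (by norm_num) (by norm_num) (R := R49) (by decide +kernel) (by decide +kernel)
    (by decide +kernel)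

end Cfsg.Agent.Lib.A8Code
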