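import Cfsg.Agent.Lib.A8Climb

set_option autoImplicit false

namespace Cfsg.Agent.Lib.A8Code.K22

def T : ℕ := 0xfac688fac688fac688fac688fac688fac688fac688fac688fac688fac688fac688fac688fac688fac688fac688fac688fac688fac688fac688fac688fac688fac688fac688fac688fac688fac688fac688fac688fac688fac688fac688fac688fac688fac688fac688fac688fac688fac688fac688fac688fac688eab988fac688eead08f2e4c8fac688fac688fac688fac688e55d18f0e6a8f59d10f94358f16a58fac688fac688fac688e19535ec1574ee03aaf33151e8dc1ce73544fac688

def TW : ℕ := 0x8a28900000000000000000000000000000000000000000005144a00000000000000000944944900000000000000000000000000000000000000000000000000000000000000000000000000000000000000000000000000000000000000000000a24900000000000000000000000200000000000000000008a24900000000000000000024944a000000000000000000049289000000000000000000000000000000000000000000000000000000000000000000000000000000000000000000000049000000000000000000000289000000000000000000000009000000000000000000000001000000000000000000001249000000000000000000002289000000000000000000000000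

def E : ℕ := 0x0003ac004b0001bca0f40003aa0062006c5f521c0003a2004700663ea0e600039a001200421d1735000392006e001d7c89aa00038a002a004e9c3d51000007002e0008ddca8800036c001700587e158500034a00360046ddd21400033a0044005e9d9a1600032a000400097f550100031c006c00681d3d6100031a004800293e86a600030c0061006b1cd8b300030200020053be20ce0002e4001900763e3b820002e2002b0014de04cd0002da001d003a5ceae00002d4002800179ea3980002cc007200627ee80a0002ca003d001b1d38750002c4005e00267d03660002c2003a004a1e9ca30002ba000900435f17050002b4002400729d5cc10002b2006900059ea60e00029a00350056dca94300028a00210040bf330200027c0060003f3c553300027a002d0052dcab180002720055006d7ccc2a00026a000500137d0a74000264005000193e899a00026200310002dd18c500025c004c00049d521e00025a001a00559eac430002540022001abc1c9c00024a0034000fdca0e5000244007300125ec19900023c006400635d8a6600023a005a000abc15a30002340001005f9c6ad1000232004000659cb42e00022a0071002abc8d1a00022200380067dd1a1c00021a002900063c589e0002140056004fbc17320002120058003e5ce11d00020a0026000d5d837400020200370021dc42d50001fc006d00745c3ba10001fa0052004cbc84e60001f4006a00251dac650001f2006600453c57a20001ea000600513e30ae0001e4006f0024bde10a0001e2007000205c33350001da0063001f1da9710001d4004300571f46550001d2007600473dc1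aa0001cc005f00397e1ca80001ca003e00751e6751000005006500077f58880001ba006b0036f8c62a00019c001b0034f468d100019a0075002ee8b82e000194001f0031ea82f40001920025002ff51c1c000182005b0000e44cd500017a00420033e88ae6000172004a002ce232ae00016c0011002be1eb0a00016a00030037e4353500016400410038ef405500016200680030e1c3aa00015a003c0035ee61510000030057002df3568800012c00670044bcc0b300011c000e006a5f43580000fc005d0077bdad080000fa000700155c57310000f2004d00647d40750000e2005100603ee0a30000dc0046005cbe14330000da003b001c5e6a580000d2002f0071dea6440000b40030006fdd52c40000ac000b005b1f58530000aa001800483da9a80000a2004f000c9ce62a00009c004e000e7eac0c00009a002000111d5674000092002300503f542300008c000f0069bd181e00008a0013003d5ee8430000820039000b5c8ce500007c0053004d9e859900007a0049001e9d1ac6000072007400101e1d530000640000004bdc58d1000062001e00707ca82e00005c000d00411ea2f400005a004500233d5c1c000054002700273c3b320000520033005adc851d00004c001600737f0a8c00004a001c003c1d9574000042000a00169c1cd500003a001500031caae600003200140049bc33a200002a005400597e02ae00002400320022dd8b0a000022000c003b7c153500001a005900615dc1710000140077006e9f3055000012005c00549d83aa00000c003f00183e66a800000a002c005dde315100000100080028bf468800000000100032fac688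

def C : ℕ := 0x261300000251520000000001914854289849261a0000000000024c249000009454a0000000000151145004c309268

theorem check : checkL 22 120 T TW E C 33 = true := by
  decide +kernel

end Cfsg.Agent.Lib.A8Code.K22
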