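import Cfsg.Agent.Lib.A8Climb

set_option autoImplicit false

namespace Cfsg.Agent.Lib.A8Code.K23

def T : ℕ := 0xfac688fac688fac688fac688fac688fac688fac688fac688fac688fac688fac688fac688fac688fac688fac688fac688fac688fac688fac688fac688fac688fac688fac688fac688fac688fac688fac688fac688fac688fac688fac688fac688fac688fac688fac688fac688fac688fac688fac688fac688fac6888bdcc8fac688fac688ae7588fac688fac688fac68833bb90c6b53878f950b117f07352b8ef2a60fac688fac6880aef0be358d1e46b1a5603f372a18f973217d5a9c1fac688

def TW : ℕ := 0x129100000000000000000000000000000000000000000000000000000000000000000000044900000000000000000000000000000000000000000000000000000000000000000000000000000000000000000000a48900000000000000000000028a00000000000000000000125200000000000000000001249100000000000000000000125100000000000000000000044a00000000000000000000000000000000000000000000000000000000000000000000049200000000000000000000000100000000000000000000000900000000000000000000004a00000000000000000000001200000000000000000000009100000000000000000000008a000000000000000000000000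

def E : ℕ := 0x0003b2004300697d03ac0003a2000e00525ce16300039a0050001e2d0f35000392001300173c5d1a00038c0009005a08eeec00038a003a006d1f4ad1000005005c000bdeb88800035a00520076dea303000334005b0027dd415900032a0049005e8b1a3b00031a005d004937bc220003140044005742c39f0002f200140002be10f20002ec00650021e11d1d0002ea002d003fa3e85a0002e40031006ed0b0bd0002e2004d004e8731ea0002d400720042738c550002d20066004c6689ba0002ca001800653c47950002b20042002613ab990002ac00350073f88ad40002a200710036646f5400029400740020b304f900029200160010460eee000282001a00689d8ca900027a0036002b9bd611000274002a006c62ade100026a000f0066f4688b0002620063006242677900025c002700131f354c0002540005002fbba2e000024a0015005c1167cd000244006f0019cf9950000242002500228ee2b800023c003f0067435f0b0002320029004ad6045f00022c0038007021eea500022a00680006c1cbca000224006c00477d6a600002220053004177c58800021c0059005458f70500021a005e0012f356420002140030006439d53800021200560053d1ae6800020c001b004b2e7a8600020a006d0072ccd5c4000204006100116a507e0001fc003d0046f9982a0001fa00480050b1e2170001f400410028b939c10001f20006000f53b3460001ec0051000aeec4310001ea002b005bad1e260001e4006e003ea843f30001e20055001b5c1d630001dc000b00778d518f0001da0073004f2fa1350001d400570033888f9d0001d2002c002e3f0b1a0001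cc001c002c0b9cec0001ca0032002a1ee8d1000003004e001dde56880001820058006fbd181e00017c00020063e295a300017200450029853c3d00015c004c0003fa035a00014a00690074a8f98300013a0034000d3ec0f200012c00040059b08c9f00012a005f003a4709dd00011a0026006b9c87950001120001001698dec200010c001d001460abbc00010200080045f5e1110000ec00220004cc1f2a0000ea001900158c6a570000e4001200313185ee0000d4005400618477720000cc0024002d12e4f90000ba006000381e3ca90000b4002f003741dde10000a40017007122e7d40000a200760056c1477900009c001f00557c654c00009a00670023744eb1000094000700075af2e0000092000c0018f15cc800008c003700432f795000008a004b001cce52b80000840028000e6b580f00007c005a0075a16f0b00007a0075000843ca73000072003c004417445f00006c003b0024c0bea500006a00330060833bca00006400100034ddaa6000005c00770058f9170500005a003e005db3e6420000540070003cb8b53800005200390032533e6800004c00460001ecca86000044004f000ca9c07e000042002000055d91ac00003c0003001a3bb82a00003a000a0039d2b217000034000d003d7aa9c10000320040004871734600002c001100258fd43100002a002e001f2eae26000024004700518a83f3000022006400403d0d6300001c0023006aae218f00001a004a00094cf135000014006b005f0a1f9d000012006a003b1ceb1a00000c001e0000287cec00000a00000030dc58d10000010062004dbf468800000000210035fac688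

def C : ℕ := 0x214524000000018c000000001146230a25426149500000000001184c5080124948a8

theorem check : checkL 23 120 T TW E C 33 = true := by
  decide +kernel

end Cfsg.Agent.Lib.A8Code.K23
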