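import Cfsg.Agent.Lib.A8Climb

set_option autoImplicit false

namespace Cfsg.Agent.Lib.A8Code.K24

def T : ℕ := 0xfac688fac688fac688fac688fac688fac688fac688fac688fac688fac688fac688fac688fac688fac688fac688fac688fac688fac688fac688fac688fac688fac688fac688fac688fac688fac688fac688fac688fac688fac688fac688fac688fac688fac688fac688fac688fac688fac688fac688fac688fac688ea5788f16748f72708fac688fac688fac688fac688fac688e6c4f0f0bd50f19570fa5298ee5470fac688fac688fac688e358d1e46b1ae88d63e8e0e5f1a235ecab84fac688

def TW : ℕ := 0x944944900000000000000000005144a00000000000000000008a28900000000000000000000000000000000000000000000000000000000000000000000000000000000000000000000000000000000000000000000000000000000000000000024944a00000000000000000008a24900000000000000000000a249000000000000000000000002000000000000000000049289000000000000000000000000000000000000000000000000000000000000000000000000000000000000000000000001000000000000000000000009000000000000000000000049000000000000000000000289000000000000000000001249000000000000000000002249000000000000000000000000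

def E : ℕ := 0x000394001200407c237400038a00340002dccad0000382004400479f075100037a00360076ddd85000036c0052006c5f112b000362000a00683c2735000352004f006fbc388e00034a0047000b7ee50800033a00460001bd460e00032c004100497e2d4800032a004900075f316100030c006600211f14ec00030a004a001f3c46ae000302004d00579f26450002f2006400555e52c60002e40010003a5e87a10002d4003f00299cb5850002cc004b006b1eb8560002ca0045003c3ead180002c40018001d7ca1660002ba0017004dbf421a0002b400350008de260d0002b2006100151f346500029c005d00647e943400029a006000245ec646000294003c001c3dc0b5000292001a00509d62c500028a000b00165e03ab00028400480043bd073100028200390044bd958400027a0055005e1e1ad6000272001f000a3da12e00026c006f00099eb19100026a00380017dea21c0002620054000c1dc37200025c004e003b1ca7a500025a0069006d3e3435000252003e00707cd0b400024c0073005f3de16200024a004300229d037300024400300062dd888d000242006c00651d1ce500023a0062001abe119300023400370048dd3129000232005900581da3ac00022c001b00615c4c6b00022a006700147ce12a000222002c0020dc8a9c00021c002700189d8d4a00021a00330056dd1163000212001400545c5ce100020c00200027bc685300020a000e003fbc8d1a000204001c005c3f4a98000202000100679c6ad1000007002200237f58880001f20056005bbd621c0001ea006300039cd1930001dc006a00107c4d4a0001da001d004e5ce1630001d2005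f00453c5d1a0001ca000700721f4ad1000005002d000edeb8880001b200150035f610d60001a2003b002ce5c172000194006b0033f18c8d0001920058002df910e500018c00650030e13d2900018a005e002ee5a1ac00017a00720000f48c9c00017200420032e11d6300016a000c002bf854e100016400190037f06a5300016200060036f88b1a00015c00530038f7429800015a0021002ff468d100000300510034f3568800011c002600263c589e00011a000f00419cdcd00001140074000fbd181e0001120008005abdcc5000010a0023001e5c333500010400310039de141d000102000400511f46550000fa000900777c4a8e0000ea0071005d9d3a0e0000dc001300733f20ec0000d2002f004cdeb40c0000ca003d00665f38450000b40016002a1eb5a10000ac005700607ca98500009c006e00595e3c0d00009a0003003d7f2065000092004c0063be2383000084006800113ea634000082005a00759eb44600007a002b0046dd18c5000072000d00421e15ab00006a006d004a3dab840000640029006e7e89910000620077000d5e9c1c00005a005b003e9d9172000054004000045cb1a50000520075001b7e223500004a00760005bc86b4000044002e0025dd8362000042003a00061d197300003a001100693e0b93000034005000527d0d290000320070004b5d91ac00002c0005006a9c646b00002a0032004fdc872a000024002400531de94a000022005c00133d0d6300001a00020028bc64e1000012001e00191ceb1a00000c002800129f529800000a00000074dc58d100000100250071bf4688000000002a0031fac688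

def C : ℕ := 0x42a152100950a92800000000130c50c00000006300000000024984900000006500000000924990904930c268

theorem check : checkL 24 120 T TW E C 30 = true := by
  decide +kernel

end Cfsg.Agent.Lib.A8Code.K24
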