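import Cfsg.Agent.Lib.A8Climb

set_option autoImplicit false

namespace Cfsg.Agent.Lib.A8Code.K25

def T : ℕ := 0xfac688fac688fac688fac688fac688fac688fac688fac688fac688fac688fac688fac688fac688fac688fac688fac688fac688fac688fac688fac688fac688fac688fac688fac688fac688fac688fac688fac688fac688fac688fac688fac688fac688fac688fac688fac688fac688fac688fac688fac688fac6886b7948953f88fac688fac688fac688fac688fac68833a7a8a5f5a0a8e7388b9af05f3328715c78fac688fac688177519e358d1e46b1a4e0c6f5dc18d29ea273d3d44fac688

def TW : ℕ := 0x249100000000000000000024925200000000000000000000000000000000000000000000000000000000000000000000000000000000000000000000000000000000000000000000000000000000000000000000004a00000000000000000005145100000000000000000000029100000000000000000000228a00000000000000000001128a00000000000000000000048a00000000000000000000000000000000000000000000000000000000000000000000008a00000000000000000000000100000000000000000000000900000000000000000000001100000000000000000000005100000000000000000000000200000000000000000000000a000000000000000000000000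

def E : ℕ := 0x0003a2001c000e5f036300039a0066006c6b086f000394006a0059e73544000392005c00163ee11a00038c0032004846e62700038a0006006e1e5cd100000500440001ddca8800035400080064159eb400032a0050003aa833e6000324000e004cb919d8000322003a00549474730002fa0033005ed442fa0002f40075001fe11b330002ec006d00104ef1a10002e40043006741c3770002da004a0051c6f41c0002c4005f004613a35e0002c20010000d688f350002ba006400038721dd0002ac006f006073722a0002a200620037bdc44600029c0072001c80bbba00029a004600494fe948000294002200703e642b00028a00280052b330b9000284001a00760b766500027a002d0002d5850f000274002f004eca9ee000027200110020a2739300026c001800080d4b8f00026a0048003b782979000262003d0017446eec000254003e001e629dd400025200700030ce7a4200024400630038a60e9e000242007700449d323500023c002a00732bd70600023a00580047e0cc9d000234004f003e8eac780002320029006f5a0bcb000222001d0012b162c700021c0026003f99f14a00021a00310009571738000214005a0072235ea300021200030028eec21600020a0065002ca9f831000204000c004307c4f5000202006e00537ca1ac0001fc000a005ff83a540001fa0054006935e9c20001f400250021a3e5190001f20041006d8cd0b70001ec000700613284fe0001ea005e0035ea318d0001e4004b00228577a80001e2003900265c1d630001dc0071005c1157f10001da00600068684c6f0001d400190018e5ad440001d2002000363f0b1a0001cc005600754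73a270001ca001300501ee8d1000003004c000fde56880001ac001b00116372ac00017a0051000bd5405f0001720021002a74f5a00001540047002daa0f9900013c00670058708f7200012a00590024f5ad0100011a000d005dd185cd0001140053004dcbb32800010c000b00233de88500010200570062b0bc170000f40049007150735e0000f200610042099f350000e200350027a1f8720000dc003600390fc5710000da0069003c78a12f0000d2006800774661dd0000cc0024001ddcc42b0000ca0014004aa7a0e60000c400550005e866650000bc00050057f11af00000ba003800002879ab0000b400270056ad63c40000b200740006985e5a0000a20002000ce2c39300009c000f00048c2b8f00009a00150015598979000092002e0025c50eec00008a0042004bb3e458000084005d002f9976290000820034004f541ce700007c0037006521ddd40000720076006a839c9d00006a00300007194bcb000062005b003407776200005c0016000a774e1100005a002b006bd2a2c700005400730066fa314a0000520004005a35673800004c003f001ba0eea300004a002c00558fd21600004400520019330a9f000042001e002beab83100003c000100297b8a5400003a00090014d4b9c2000034003c0045c2f51900003200400063ae10b700002c0017007410d4fe00002a002300316bc18d00002400450013e627a800001c004d003db027f100001a004e0041898c6f000014003b004047bd44000012006b005b1ceb1a00000c0012001a656a2700000a00000032dc58d1000001006c002ebf4688000000001f0033fac688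

def C : ℕ := 0x25131200000006400000002144c28a0544498a80000000012a249104930c268

theorem check : checkL 25 120 T TW E C 30 = true := by
  decide +kernel

end Cfsg.Agent.Lib.A8Code.K25
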