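import Cfsg.Agent.Lib.A8Climb

set_option autoImplicit false

namespace Cfsg.Agent.Lib.A8Code.K26

def T : ℕ := 0xfac688fac688fac688fac688fac688fac688fac688fac688fac688fac688fac688fac688fac688fac688fac688fac688fac688fac688fac688fac688fac688fac688fac688fac688fac688fac688fac688fac688fac688fac688fac688fac688fac688fac688fac688fac688fac688fac688fac688fac6885e3b88c9d9c8fac688fac688fac688fac688fac688fac6883d5ce085afa868fb30ce1578b333d057e858fac688fac688153dccc22ecd88739d7b8aa15de1294ee23c8d7d41fac688

def TW : ℕ := 0x144928a00000000000000000228925100000000000000000000000000000000000000000000000000000000000000000000000000000000000000000000000000000000000000000000000000000000000000000000000000000000000000000000124900000000000000000000004900000000000000000000024900000000000000000000000900000000000000000000000100000000000000000000924900000000000000000000000000000000000000000000000000000000000000000000044a00000000000000000000008a00000000000000000000028a00000000000000000000004a00000000000000000000000a00000000000000000000144a000000000000000000000002000000000000000000000000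

def E : ℕ := 0x0003b20055004d15e87a0003a4003000011e5cd10003a20020003b4ef33000039a0069004633a7a8000392001f003f79197800038a005e001a94bdd000000b006e0019ddca8800037a004400606b414f0003720045005b86e1da000364001e005acfd0a10003620041000931f5a800035a003200777a23780003520022000f9717d000000900520004deb88800032400370021a847b900032200430048f9585800031a000d000ae46953000312004000338fd44600030a002b004215f50e0002fa005f007454fce00002f4006b00734c5dcc0002f200070061d172c50002ec001800401e239d0002ea005c004a4ee0670002da006f00123dab300002d2006d0068b8a7070002ca003a000333d0f20002c40012002ce1eaa10002c2001700476a1fa80002ba0005004bf599820002b4004700347971290002b2003e00658735780002ac003100755e3d410002aa004a002dcec3d000000700680037b3e68800027c0064005246c1bb00027a0010000dc3d45c0002720039005154333e00026a005800545cd81e00025200760030a70ed400024a00350016a172e6000242003600153c479500023c0008006c29fc2500023a005d00271a32af00022a0077006eab7858000222005b0070ee850e00021400720038e0a7350002120075005e68694f00020a0009006f17467a000204003f0064ba05d9000202002a0028e6ace00001fc0050002353839d0001fa00260013d5a0670001f2002d0058845dda0001ec002800391ee8d10001ea004800624f9b300001e200010063be10f20001dc000b0022cc7aa10001da0059000e313fa80001d4004f0002eb31290001d2003b005778c57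80001ca0013004195e3d00000050057003ade56880001b40029002923eb1a0001b2003d000b099f660001a2006500710635f500018400340076ce9e8400017a002e00060f42af00016a00560007bd68580001620023004c05dcbc00015200620045b3b44600014a0067001e79094f0001420015004412e67a00013c0042005da345d900013a003c001ce8dce0000132005300140e7a5600012c000f006aa83dcc00012a0016003ef942c500012200020049948dda00011c001c00311bd8d100011a0014003245fb300001140003005f132ecd0001120004006b54e70700010400600000dd8aa10001020006002f2e2fa80000fa004c002a3dd9820000f4001b000ced61290000f2005a006d7315780000ec002100676a7d410000ea005100509ab3d000000300330072d7c6880000d4004900561ceb1a0000d20025004f4c1f660000c20019001d3035f50000a400460036771e8400009a004e003d7842af00008a00110043eae8580000820054001b2c5cbc000072000e00059eb44600006a000c005cc9894f0000620063001794667a00005c002c00261ac5d900005a001d005347dce00000520024003c707a5600004c0061002542bdcc00004a006c0018cbc2c500004200700011a60dda00003c00000069dc58d100003a007100552d7b300000340073001f982ecd00003200740020a56707000024001a0024ef0aa1000022006a006670afa800001a002f0059ecd9820000140066004e6be129000012000a002b99957800000c004b002e51fd4100000a00270010d633d0000001004d0035bf468800000000380008fac688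

def C : ℕ := 0x1130a00000024a90000000000000a3093000000092a300000000025151446200a88a8a2a0000000000924c24c24000284c46800000000000026124c08c24c28ca000000000002642499002a23092a8

theorem check : checkL 26 120 T TW E C 36 = true := by
  decide +kernel

end Cfsg.Agent.Lib.A8Code.K26
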