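import Cfsg.Agent.Lib.A8Climb

set_option autoImplicit false

namespace Cfsg.Agent.Lib.A8Code.K28

def T : ℕ := 0xfac688fac688fac688fac688fac688fac688fac688fac688fac688fac688fac688fac688fac688fac688fac688fac688bf4688d7c688fac688fac688fac688fac688fac688fac688fac688fac688fac688fac688fac688fac688fac688fac688fac688fac688fac688f73888fac688fac688fac688fac688fac688fac688fac688bba708bf3508fac688fac688fac688fac688fac688fac688bf1898deb310f74650fac688fac688fac688fac688fac688fa88d1bf20e1dec419bf3302fac688

def TW : ℕ := 0xb65b00000000000000000008b6530000000000000000000000000000000000000000000000000000000000000000000000000000000000000000000000000000000000000000000000000000000000000000000000000000000000000000000000000000000000000000000000000000000000000000000000000000000000000000000000000000000000000000000000000000000000000000000000000000000000000000000000000000000000000000000000000000000000000000000000000000000000000000000000000000000000000000000000000000000000000000000022c900000000000000000000000000000000000000000000000000000000000000000000000000000000000000000000000000000000000000000000000000000000000000000000000000000000000000000000000000000000000000000000001a0000000000000000000000930000000000000000000000000000000000000000000000000000000000000000000000000000000000000000000000000000000000000000000000000000000000000000000000000000000000000000000000030000000000000000000000020000000000000000000000130000000000000000000000000000000000000000000000000000000000000000000000000000000000000000000000000000000000000000000000000000000000000000000000010000000000000000000000190000000000000000000000110000000000000000000000c9000000000000000000000000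

def E : ℕ := 0x00019200360037287d6300018a002f003309dfa1000184002e003645fd60000182001c0032506f5900017c0034003560ef6200017a00190031067d5a000176001a0034855f980001740026002e2e6f500001720021003081fd510000050022002f717d4800013c001e002be65c1a00012c001f001bc55f0300012a00200011f15cc800012400320025ec5c5400010e0023002cc47ae200010600070028d1de420000f600100015cd5e210000f4000a0021aa6e0b0000ee0031001fecdc840000e60006001dd05eca0000de00330014e85d190000d2000f0022ae6e110000cc000d0013b06e5a0000ca0017001aacfd020000c20030002ae9eb010000b200270019a57c1c0000aa00080017c67a830000a600240020ac7c620000a4002a0029c87acc00009c0028001ca9ef0800009a00150016a87ce100009400350023e56ae0000092000c0024d17a1900008e001b001ea0fd1300008c00110012c1fa6200008a00370018e46b1a00008600090026a67c98000084002b0027ccfb100000820016002de26ad100000300130010f1ea880000440000000fd6705a00003e000b0009d4f8d00000340002000ed474e100002e001d000cf5e06200002a00250002dd52230000260001000ab9f2a00000240003000dd5770800002200120006f560e100001e000e0007be665000001600290004f463130000120018000bdcd11a00000e002c0008f4e89800000c002d0003f9d31000000a00140005dc58d100000100040001de568800000000050000fac688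

def C : ℕ := 0x28c3080032cba000000014626610006597400000000007128000cb2e8

theorem check : checkL 28 56 T TW E C 27 = true := by
  decide +kernel

end Cfsg.Agent.Lib.A8Code.K28
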