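import Cfsg.Agent.Lib.A8Climb

set_option autoImplicit false

namespace Cfsg.Agent.Lib.A8Code.K29

def T : ℕ := 0xfac688fac688fac688fac688fac688fac688fac688fac688fac688fac688fac688fac688fac688fac688fac688fac688fac688fac688fac688fac688fac688fac688fac688fac688fac688fac688fac688fac688fac688fac688fac688fac688fac688fac688f9d888fa3a88fac688fac688fac688fac688fac688fac688f95708f9ab08fab508fac688fac688fac688fac688fac688f8d8d0f91b18f9a360f95858fac688fac688fac688fac688f858caf98561fa30a9fac611f958c1fac688

def TW : ℕ := 0x9145200000000000000008948a44a00000000000000000000000000000000000000000000000000000000000000000000000000000000000000000000000000000000000000000000000000000000000000000000000000000000000000000148a48900000000000000000000045100000000000000000000a292000000000000000000000000000000000000000000000000000000000000000000000000000000000000000000000000000000000000000000000000000000000000000000000002000000000000000000000012000000000000000000000092000000000000000000000051000000000000000000000000000000000000000000000000000000000000000000000000000000000000000000000000000000000000000000000089000000000000000000000491000000000000000000002491000000000000000000000001000000000000000000000011000000000000000000000000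

def E : ℕ := 0x00019c0015003797e6810001940014003677e88800018200090034a7e68400017c000b0030abe05c0001740037003373e4450001640036002d53e668000154001c003233e68500014c000a0035a3e65400014a0034002387e153000144003300254fe34400012c001e003113e46b00012a0032002e2fe5600001240026002243e36300011c000c002aafe44400011a0030002f83e54b000112002e002b2beb0300010c001a00278fe46800010a0029001f63e561000104002d002c0fe362000102002b001d23eb1a0000fc002a00298be3430000f40020002807eb130000ec002700266be3600000ea002500240beb190000e40023002167eb020000e20018001b17e8ca0000dc0021002047eb180000da0019001e57e8c10000d40017001c37e8d000000b0007001ab3e6880000bc000600197b83620000ba000400161b9b1a0000b2000500185b8b190000ac000300173bab180000a4000d0015bb98d0000009000100149bd68800008c00310013ef036200008a00240010e31b1a000082002c0012eb0b1900007c00280011e72b180000740016000ff718d0000007001b000ef356880000050010000dde568800005c000f000cd3a34300004c000e000bcf9b0200004a00120008c3d8ca0000420013000acbd8c100003c00110009c7d8d000000300000007d7c68800002c003500069f234300001c002f00057f1b0200001a002200021f58ca000012001f00045f58c100000c001d00033f58d000000100080001bf468800000000020000fac688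

def C : ℕ := 0x1228a51400000006800000000000000100c4914a600000000000000100c4914a500000000008a4a200c4914a0000000000000122000000068000000000000022000000068

theorem check : checkL 29 56 T TW E C 30 = true := by
  decide +kernel

end Cfsg.Agent.Lib.A8Code.K29
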