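import Cfsg.Agent.Lib.A8Climb

set_option autoImplicit false

namespace Cfsg.Agent.Lib.A8Code.K30

def T : ℕ := 0xfac688fac688fac688fac688fac688fac688fac688fac688fac688fac688fac688fac688fac688fac688fac688fac688fac688fac688fac688fac688fac688fac688fac688fac688fac688fac688fac688fac688fac688fac688fac688fac688fac688eee888fac688f2bc88fac688fac688fac688fac688fac688eae708fac688eead08fab508fac688fac688fac688fac688e6e8d0fac688ea9d18eea3a0eae858fac688fac688fac688e2e8cafac688ee85a1ee91a2fac611eae8c1fac688

def TW : ℕ := 0x9145200000000000000000000000000000000000000008948a44a00000000000000000000000000000000000000000000000000000000000000000000000000000000000000000000000000000000000000000000000000000000000000000148a48900000000000000000000000000000000000000000000045100000000000000000000a292000000000000000000000000000000000000000000000000000000000000000000000000000000000000000000000000000000000000000000000002000000000000000000000000000000000000000000000012000000000000000000000092000000000000000000000051000000000000000000000000000000000000000000000000000000000000000000000000000000000000000000000089000000000000000000000000000000000000000000000491000000000000000000002489000000000000000000000001000000000000000000000011000000000000000000000000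

def E : ℕ := 0x00000b00280037b3e6880001a4002a00367e83a20001a2001100331e9d1a00019a002900355e8d19000194000f00343ead1800018c002b0032de98d0000009000100319ee68800017c00330030ea538300016c0024002fe5dd0200016a0017002cf858ca000162001f002ef958c100015c001b002df8d8d00000070008002bf356880001340037002a9f568100012c000c00297f588800011a002d0027dcd684000114002f0023dd505c00010c003100267e54460000fc003600205e56700000ec003400253e56860000e4002e0028dc56540000e2000300169cd1930000dc002600185dd3840000c4003500241e54730000c2002500213dd5a00000bc001900155c53a30000b40030001dddd4440000b2000400229c558b0000aa0021001e3d5d030000a40006001a9dd4700000a2001c00127c55a100009c0020001f1dd3a200009a001e00103c5d1a0000940005001c9d538300008c0013001b1cdd13000084001a00197d53a0000082001800171d5d1900007c001600147cdd0200007a000a000e1f58ca000074001400135cdd18000072000b00115f58c100006c0009000f3f58d00000050000000dde568800005c0002000c97a38300004c0022000b779d0200004a0015000817e8ca0000420012000a57e8c100003c0010000937e8d0000003002c0007d7c68800002c00320006be238300001c000d0005bd9d0200001a00230002bc68ca000012001d0004bd68c100000c00270003bce8d000000100070001bf4688000000000e0000fac688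

def C : ℕ := 0x8a4a231245284000000000004c4914a7000000000001312452940000000000880000068000000000114000001a00000000122900000068

theorem check : checkL 30 56 T TW E C 24 = true := by
  decide +kernel

end Cfsg.Agent.Lib.A8Code.K30
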