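import Cfsg.Agent.Lib.A8Climb

set_option autoImplicit false

namespace Cfsg.Agent.Lib.A8Code.K31

def T : ℕ := 0xfac688fac688fac688fac688fac688fac688fac688fac688fac688fac688fac688fac688fac688fac688fac688fac688fac688fac688fac688fac688fac688fac688fac688fac688fac688fac688fac688fac688fac688fac688fac688fac6887af888fac688fac6889abe88fac688fac688fac688fac6885af708fac688fac6887aaf08fab508fac688fac688fac6883af8d0fac688fac6885a9f187aa3e05af858fac688fac6881af8cafac688fac6883a8f1a7a91e2fac6115af8c1fac688

def TW : ℕ := 0x9145200000000000000000000000000000000000000000000000000000000000000008948a44a00000000000000000000000000000000000000000000000000000000000000000000000000000000000000000000000000000000000000000148a48900000000000000000000000000000000000000000000000000000000000000000000045100000000000000000000a292000000000000000000000000000000000000000000000000000000000000000000000000000000000000000000000002000000000000000000000000000000000000000000000000000000000000000000000012000000000000000000000092000000000000000000000051000000000000000000000000000000000000000000000000000000000000000000000089000000000000000000000000000000000000000000000000000000000000000000000489000000000000000000002489000000000000000000000001000000000000000000000011000000000000000000000000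

def E : ℕ := 0x00000b002b00379776880001ac0037003652e3c300019c000600352eef0200019a00040032e2e8ca00019200050034eae8c100018c00030033e6e8d0000009000200319ee68800017c003100305a53c300016c000d002f39df0200016a0023002cf858ca000162001d002ef958c100015c0027002df8d8d00000070028002b9bd6880001340008002ad3d68100012c00220029cfd88800011a001b0027dcd684000114001f0023dd505c00010c00360026ce54470000fc00350020ca56780000ec00330025c656870000e400170028dc56540000e200090016d0d1d30000dc00260018c9d3c40000c400340024c2547b0000c200250021c5d5e00000bc00190015c853e30000b40024001dddd4440000b2000a0022d055cb0000aa0021001ec55f030000a4000c001ad1d4780000a2001c0012cc55e100009c0020001fc1d3e200009a001e0010c45f1a000094000b001cd153c300008c0013001bc0df13000084001a0019cd53e000008200180017c15f1900007c00160014ccdf0200007a0015000ec3d8ca00007400140013c8df1800007200120011cbd8c100006c0010000fc7d8d00000050032000dde568800005c0000000cd623c300004c0030000bd59f0200004a002e0008d478ca000042002f000ad578c100003c002d0009d4f8d0000003002c0007d7c68800002c00070006b323c300001c002a0005af1f0200001a00110002a378ca00001200290004ab78c100000c000f0003a778d0000001000e0001bf468800000000010000fac688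

def C : ℕ := 0x8a4a200031245288000000000000000004000c4914a70000000000000000010003124529800000000144a25128800000000680000000000000000a4000000001a00000000000000000500000000068

theorem check : checkL 31 56 T TW E C 36 = true := by
  decide +kernel

end Cfsg.Agent.Lib.A8Code.K31
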