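import Cfsg.Agent.Lib.A8Climb

set_option autoImplicit false

namespace Cfsg.Agent.Lib.A8Code.K32

def T : ℕ := 0xfac688fac688fac688fac688fac688fac688fac688fac688fac688fac688fac688fac688fac688fac688fac688fac688fac688fac688fac688fac688fac688fac688fac688fac688fac688fac688de5688fac688fac688fac688fac688fac688fac688fac688f9d888deb888fac688fac688fac688fac688fac688fac688dd58c8faa8c8dec4c8fac688fac688fac688fac688fac688f8d8d0f91b18f9a360fa3468fac688fac688fac688fac688dc58d1f88b1add1163f9a22cdec681fac688

def TW : ℕ := 0x4a24900000000000000000000000000000000000000000000000000000000000000000000000000000000000000000000000000000000000000000000000000000000000000000000000000000000000000000000000000000000000000000025144900000000000000000004944900000000000000000000000000000000000000000000000000000000000000000000000000000000000000000000000000000000000000000000000000000000000000000000000000000000000000000128a28900000000000000000024a28900000000000000000004928900000000000000000000000000000000000000000000000000000000000000000000000000000000000000000000000000000000000000000000000000000000000000000000000a00000000000000000000028a00000000000000000000a28a000000000000000000011249000000000000000000000000000000000000000000000000000000000000000000000000000000000000000000000000000000000000000000000001000000000000000000000009000000000000000000000049000000000000000000000249000000000000000000000002000000000000000000000000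

def E : ℕ := 0x0000ca000b000eab76440000c2000e001913768d0000ba001b001687e42b0000b2000a0018afe4440000a4001a00146373620000a20018001a8b722b00009a000d00158f74450000920016001367e16200008a001500176be22c0000820017000f437b1900007a001300124771630000740006001b37e8d00000720012001123eb1a00006a000200101778d10000030003000db3e6880000540010000c9f340d000044000c000b7ba06c0000420001000a9bb445000034001400055f0363000032001900087f222c00002a000900063b8b13000022000800025b916300001a000f00041f58ca000012001100093f0b1a00000c00000003bbc68100000a000500071bd8d100000100070001bf468800000000040000fac688

def C : ℕ := 0x6144a28c00124945500000000000000085000924a2a8

theorem check : checkL 32 28 T TW E C 33 = true := by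
  decide +kernel

end Cfsg.Agent.Lib.A8Code.K32
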