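import Cfsg.Agent.Lib.A8Climb

set_option autoImplicit false

namespace Cfsg.Agent.Lib.A8Code.K33

def T : ℕ := 0xfac688fac688fac688fac688fac688fac688fac688fac688fac688fac688fac688fac688fac688fac688fac688fac688fac688fac688fac688fac688fac688fac688fac688fac688fac688b3e688fac688fac688fac688fac688fac688fac688fac688eee888fac688bbb888fac688fac688fac688fac688fac688abe8c8fac688faa8c8bbc4c8fac688fac688fac688fac688e6e8d0fac688ea9d18eea3a0f2b470fac688fac688fac688a3e8d1fac688e68d1aab91a3eea234bbc681fac688

def TW : ℕ := 0x4a24900000000000000000000000000000000000000000000000000000000000000000000000000000000000000000000000000000000000000000000000000000000000000000000000000000000000000000000000000000000000000000025144900000000000000000000000000000000000000000004944900000000000000000000000000000000000000000000000000000000000000000000000000000000000000000000000000000000000000000000000000000000000000000128a28900000000000000000000000000000000000000000024a28900000000000000000004928900000000000000000000000000000000000000000000000000000000000000000000000000000000000000000000000000000000000000000000000a00000000000000000000000000000000000000000000028a00000000000000000000a28a000000000000000000011249000000000000000000000000000000000000000000000000000000000000000000000000000000000000000000000001000000000000000000000000000000000000000000000009000000000000000000000049000000000000000000000249000000000000000000000002000000000000000000000000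

def E : ℕ := 0x0000ca000b000ed576440000c20005001916768e0000ba000900169cd4330000b2000a0018ddd4440000a4001a00147473a20000a20008001a95723300009a000c001595f446000092001600137cd1a200008a001500177d52340000820017000f547d1900007a0013001254f1a30000740006001b3f58d0000072001200113c5d1a00006a000200101778d10000030000000dde56880000540001000cbe340e0000440019000bf5a0740000420004000af6344600003400180005bd03a3000032000d0008bda23400002a00110006f48d1300002200140002f511a300001a000e0004bc68ca000012001b0009bc8d1a00000c00070003f7468100000a000f0007f468d100000100030001bf468800000000100000fac688

def C : ℕ := 0x10a24928aa0000000012188924a2a8

theorem check : checkL 33 28 T TW E C 24 = true := by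
  decide +kernel

end Cfsg.Agent.Lib.A8Code.K33
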