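import Cfsg.Agent.Lib.A8Climb

set_option autoImplicit false

namespace Cfsg.Agent.Lib.A8Code.K34

def T : ℕ := 0xfac688fac688fac688fac688fac688fac688fac688fac688fac688fac688fac688fac688fac688fac688fac688fac688fac688fac688fac688fac688fac688fac688fac688fac688977688fac688fac688fac688fac688fac688fac688fac6887af888fac688fac688f73888fac688fac688fac688fac6885778c8fac688fac688faa8c8f744c8fac688fac688fac6883af8d0fac688fac6885a9f187aa3e09ab478fac688fac6881778d1fac688fac6883a8f1a5711e37aa23cf74681fac688

def TW : ℕ := 0x4a24900000000000000000000000000000000000000000000000000000000000000000000000000000000000000000000000000000000000000000000000000000000000000000000000000000000000000000000000000000000000000000025144900000000000000000000000000000000000000000000000000000000000000000004944900000000000000000000000000000000000000000000000000000000000000000000000000000000000000000000000000000000000000000128a28900000000000000000000000000000000000000000000000000000000000000000024a28900000000000000000004928900000000000000000000000000000000000000000000000000000000000000000000000000000000000000000000000a00000000000000000000000000000000000000000000000000000000000000000000028a00000000000000000000a28a000000000000000000011249000000000000000000000000000000000000000000000000000000000000000000000001000000000000000000000000000000000000000000000000000000000000000000000009000000000000000000000049000000000000000000000249000000000000000000000002000000000000000000000000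

def E : ℕ := 0x0000ca0014000ebd66440000c200020019a2668f0000ba00060016d0d43b0000b200190018ddd4440000a4001a0014ac63e20000a2000b001ab1623b00009a000a0015b1e44700009200160013ccd1e200008a00150017cd523c0000820017000fa86f1900007a00130012a8e1e30000740011001bc7d8d000007200120011c45f1a00006a000f0010a3e8d10000030007000dde56880000540003000cb3340f000044000c000bcea07c0000420000000ad2b44700003400180005ab03e3000032000d0008af223c00002a00090006c68f1300002200080002ca91e300001a000e0004a378ca000012001b0009a70f1a00000c00040003dec68100000a00050007c2f8d100000100100001bf468800000000010000fac688

def C : ℕ := 0x10a2498610012494550000000000000002a000924a2a8

theorem check : checkL 34 28 T TW E C 33 = true := by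
  decide +kernel

end Cfsg.Agent.Lib.A8Code.K34
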