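import Cfsg.Agent.Lib.A8Climb

set_option autoImplicit false

namespace Cfsg.Agent.Lib.A8Code.K35

def T : ℕ := 0xfac688fac688fac688fac688fac688fac688fac688fac688fac688fac688fac688fac688fac688fac688fac688fac688fac688fac688fac688fac688fac688fac688fac688fac688fac688fac688fac688fac688fac688fac688fac688fac68872ee888efc88fac688deb888fac688fac688fac688fac6885e3b886b5f08cd7948762f88ae7588fac688fac688fac68829f9706759d058d9d8de1a98afc390563e70fac688fac68812e2bbe358d1e46b1a5702e732e09f3e5c137ace81fac688

def TW : ℕ := 0x5125148900000000000000008948929100000000000000000000000000000000000000000124a44900000000000000000000000000000000000000000000000000000000000000000000000000000000000000000000000000000000000000000004945200000000000000000000145100000000000000000000948a00000000000000000008a28a00000000000000000009125100000000000000000000000000000000000000000000000000000000000000000000000000000000000000000000024a00000000000000000000005200000000000000000000128a00000000000000000001144a00000000000000000000244a00000000000000000000229200000000000000000000000000000000000000000000000000000000000000000000009200000000000000000000000100000000000000000000000900000000000000000000001100000000000000000000000200000000000000000000000a000000000000000000000012000000000000000000000000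

def E : ℕ := 0x00006a0003000aae7c0a0000520007000889fb8100004a0009000b7e223500003a000c0000cf82a500002c0008000665797000002a0005000d5d91ac00002400020009ccd9d000002200010002abe05c00001c000e000ee5cb8200001a000d00073d0d630000140004000387dc13000012000a00011ceb1a00000a00000005dc58d1000001000b0004bf46880000000006000cfac688

def C : ℕ := 0x924990904930c268

theorem check : checkL 35 15 T TW E C 30 = true := by
  decide +kernel

end Cfsg.Agent.Lib.A8Code.K35
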