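import Cfsg.Agent.Lib.A8Climb

set_option autoImplicit false

namespace Cfsg.Agent.Lib.A8Code.K36

def T : ℕ := 0xfac688fac688fac688fac688fac688fac688fac688fac688fac688fac688fac688fac688fac688fac688fac688fac688fac688fac688fac688fac688fac688fac688fac688fac688fac688fac688fac688fac688fac688fac688fac688fac688774e88afcc88ddca88fac688fac688fac688fac688fac688566ec8c9d9c8997748eead08d1f548fac688fac688fac68835f530e5d9905cbd60539b98cbd2e0aa6e58fac688fac6880be70de358d1b0278fbe04f1a7c09ed4b817de9702fac688

def TW : ℕ := 0x48925100000000000000000028a44900000000000000000928928a00000000000000000000000000000000000000000000000000000000000000000000000000000000000000000000000000000000000000000000000000000000000000000000a45100000000000000000000228900000000000000000025148900000000000000000225225100000000000000000024a44a00000000000000000000000000000000000000000000000000000000000000000000000000000000000000000001125200000000000000000004944a00000000000000000000045200000000000000000000048900000000000000000000025100000000000000000000225200000000000000000000000000000000000000000000000000000000000000000000001200000000000000000000000100000000000000000000000200000000000000000000000a00000000000000000000004a000000000000000000000011000000000000000000000051000000000000000000000000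

def E : ℕ := 0x0000620006000607bb9400004a0007000b67712a00004200040005c3a94b00003a000c00075d91ac00003200090003434a5f00002c0003000c42fce100002a00050000bb97020000220008000d3d0d6300001a000b00023ab817000014000a00099784f10000120002000a1ceb1a00000c000d000416278f00000a0000000edc58d100000100010008bf4688000000000e0001fac688

def C : ℕ := 0x26286284930c268

theorem check : checkL 36 15 T TW E C 27 = true := by
  decide +kernel

end Cfsg.Agent.Lib.A8Code.K36
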