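import Cfsg.Agent.Lib.A8Climb

set_option autoImplicit false

namespace Cfsg.Agent.Lib.A8Code.K37

def T : ℕ := 0xfac688fac688fac688fac688fac688fac688fac688fac688fac688fac688fac688fac688fac688fac688fac688fac688fac688fac688fac688fac688fac688fac688fac688fac688fac688f35688f66688fac688fac688fac688fac688fac688fac688eee888f9d888fa3a88fac688fac688fac688fac688fac688eb58c8ed6b08faa8c8f63588fac688fac688fac688fac688e75898e8eb18ed1d28f1a3a8fa3468fac688fac688fac688e358d1e46b1ae88d63ed11acfac611fac642fac688

def TW : ℕ := 0x24a24900000000000000000125224900000000000000000000000000000000000000000000000000000000000000000000000000000000000000000000000000000000000000000000000000000000000000000000000000000000000000000929144900000000000000000024944900000000000000000124a44900000000000000000000000000000000000000000000000000000000000000000000000000000000000000000000000000000000000000000000000000000000000000000000005200000000000000000000a45200000000000000000024928900000000000000000008924900000000000000000000000000000000000000000000000000000000000000000000000000000000000000000000000000000000000000000000008a00000000000000000000004a00000000000000000001144a00000000000000000000944a000000000000000000051249000000000000000000000000000000000000000000000000000000000000000000000000000000000000000000000001000000000000000000000009000000000000000000000049000000000000000000000249000000000000000000000002000000000000000000000012000000000000000000000000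

def E : ℕ := 0x000032000100079eb44600002a000700067e2235000022000600035d91ac00001a000500053d0d63000012000300041ceb1a00000a00000002dc58d100000100020001bf468800000000040000fac688

def C : ℕ := 0x92499090000000a8

theorem check : checkL 37 8 T TW E C 30 = true := by
  decide +kernel

end Cfsg.Agent.Lib.A8Code.K37
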