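import Cfsg.Agent.Lib.A8Climb

set_option autoImplicit false

namespace Cfsg.Agent.Lib.A8Code.K38

def T : ℕ := 0xfac688fac688fac688fac688fac688fac688fac688fac688fac688fac688fac688fac688fac688fac688fac688fac688fac688fac688fac688fac688fac688fac688fac688fac6889bd688fac688ba7688fac688fac688fac688fac688fac6887bca88fac688f9d888fa3a88fac688fac688fac688fac6885bd8c8fac688797b08faa8c8ba35c8fac688fac688fac6883bd898fac68858fb18599f6099a3e8fa3468fac688fac6881bd8d1fac688387b1a588f637911ecfac6113bd8c2fac688

def TW : ℕ := 0x24a24900000000000000000000000000000000000000000125224900000000000000000000000000000000000000000000000000000000000000000000000000000000000000000000000000000000000000000000000000000000000000000928a44900000000000000000000000000000000000000000024944900000000000000000124a44900000000000000000000000000000000000000000000000000000000000000000000000000000000000000000000000000000000000000000000005200000000000000000000000000000000000000000000a45200000000000000000024928900000000000000000008924900000000000000000000000000000000000000000000000000000000000000000000000000000000000000000000008a00000000000000000000000000000000000000000000004a00000000000000000000948a00000000000000000000944a00000000000000000005124900000000000000000000000000000000000000000000000000000000000000000000000100000000000000000000000000000000000000000000000900000000000000000000004900000000000000000000024900000000000000000000000200000000000000000000000a000000000000000000000000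

def E : ℕ := 0x0000320000000797344700002a0007000673223d000022000600054f11ec00001a000500022b0f6300001200040004077b1a00000a00020003e358d100000100030001bf468800000000010000fac688

def C : ℕ := 0x2124a2510000000a8

theorem check : checkL 38 8 T TW E C 30 = true := by
  decide +kernel

end Cfsg.Agent.Lib.A8Code.K38
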