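import Cfsg.Agent.Lib.A8Climb

set_option autoImplicit false

namespace Cfsg.Agent.Lib.A8Code.K39

def T : ℕ := 0xfac688fac688fac688fac688fac688fac688fac688fac688fac688fac688fac688fac688fac688fac688fac688fac688fac688fac688fac688fac688fac688fac688fac688fac6889ee688d2f688fac688fac688fac688fac688fac688fac6887ecc88eee888fac688f2bc88fac688fac688fac688fac6885ee8c86afd08fac688faa8c8d2b5c8fac688fac688fac6883ee89846fd18fac6884e9fa08ea3f0f2b470fac688fac6881ee8d122fd1afac688468fa36a91f4fac6113ee8c2fac688

def TW : ℕ := 0x24a24900000000000000000125224900000000000000000000000000000000000000000000000000000000000000000000000000000000000000000000000000000000000000000000000000000000000000000000000000000000000000000928a44900000000000000000024944900000000000000000000000000000000000000000124a44900000000000000000000000000000000000000000000000000000000000000000000000000000000000000000000000000000000000000000000005200000000000000000000a45200000000000000000000000000000000000000000024928900000000000000000008924900000000000000000000000000000000000000000000000000000000000000000000000000000000000000000000008a00000000000000000000004a00000000000000000000000000000000000000000000948a00000000000000000000944a00000000000000000005124900000000000000000000000000000000000000000000000000000000000000000000000100000000000000000000000900000000000000000000000000000000000000000000004900000000000000000000024900000000000000000000000200000000000000000000000a000000000000000000000000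

def E : ℕ := 0x00003200000007ba344700002a00070006b1a23e00002200060003ad11f400001a00050005a88fa300001200030004a47d1a00000a00040002a3e8d100000100020001bf468800000000010000fac688

def C : ℕ := 0x213092510000000a8

theorem check : checkL 39 8 T TW E C 30 = true := by
  decide +kernel

end Cfsg.Agent.Lib.A8Code.K39
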