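import Cfsg.Agent.Lib.A8Climb

set_option autoImplicit false

namespace Cfsg.Agent.Lib.A8Code.Std41

def T : ℕ := 0xfac688fac688fac688fac688fac688fac688fac688fac688fac688fac688fac688fac688fac688fac688fac688fac688fac688fac688fac688fac688fac688fac688fac688fac688fac688fac688fac688fac688fac688fac688fac688fac688fac688fac688fac688fac688fac688fac688fac688fac688fac688fac688fac688faa8c8fab508fac688fac688fac688fac688fac688fac688fa9898faa318fac458fac688fac688fac688fac688fac688fa88d1fa911afac611fac642fac688

def TW : ℕ := 0x5200000000000000000000224900000000000000000000000000000000000000000000000000000000000000000000000000000000000000000000000000000000000000000000000000000000000000000000000000000000000000000000008a00000000000000000000004a000000000000000000001449000000000000000000000000000000000000000000000000000000000000000000000000000000000000000000000000000000000000000000000000000000000000000000000001000000000000000000000009000000000000000000000002000000000000000000000012000000000000000000000000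

def E : ℕ := 0xfac688fac642fac611fac4c1fac458fac40bfac2d0fac283fac21afac0cafac099fac053fab881fab850fab80afab508fab444fab421fab302fab2a0fab214fab111fab08cfab062faa8c8faa843faa819faa701faa660faa60cfaa318faa2c4faa223faa10bfaa0e1faa05cfa98c2fa9898fa9813fa9710fa9684fa9622fa9503fa94e0fa941cfa911afa90d4fa90a3fa88d1fa888bfa885afa870afa86a1fa8654fa8519fa84ccfa8463fa8313fa82e2fa829c

theorem chkT : checkT 41 T TW = true := by
  decide +kernel

theorem chkE : checkE T E 60 = true := by
  decide +kernel

theorem card : 60 ≤ Nat.card (Lk 41) :=
  card_ge (checkT_spec (by norm_num) chkT) chkE

end Cfsg.Agent.Lib.A8Code.Std41
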