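import Cfsg.Agent.Lib.A8Climb

set_option autoImplicit false

namespace Cfsg.Agent.Lib.A8Code.Std42

def T : ℕ := 0xfac688fac688fac688fac688fac688fac688fac688fac688fac688fac688fac688fac688fac688fac688fac688fac688fac688fac688fac688fac688fac688fac688fac688fac688fac688fac688fac688fac688fac688fac688fac688fac688fac688fac688f9d888fa3a88fac688fac688fac688fac688fac688fac688f95708f9ab08fab508fac688fac688fac688fac688fac688f8d8d0f91b18f9a360f95858fac688fac688fac688fac688f858caf98561fa30a9fac611f958c1fac688

def TW : ℕ := 0x9145200000000000000008948a44a00000000000000000000000000000000000000000000000000000000000000000000000000000000000000000000000000000000000000000000000000000000000000000000000000000000000000000148a48900000000000000000000045100000000000000000000a292000000000000000000000000000000000000000000000000000000000000000000000000000000000000000000000000000000000000000000000000000000000000000000000002000000000000000000000012000000000000000000000092000000000000000000000051000000000000000000000000000000000000000000000000000000000000000000000000000000000000000000000000000000000000000000000089000000000000000000000491000000000000000000002491000000000000000000000001000000000000000000000011000000000000000000000000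

def E : ℕ := 0xfac688fac642fac611fac4c1fac458fac40bfac2d0fac283fac21afac0cafac099fac053fab881fab850fab80afab508fab444fab421fab302fab2a0fab214fab111fab08cfab062faa8c8faa843faa819faa701faa660faa60cfaa318faa2c4faa223faa10bfaa0e1faa05cfa98c2fa9898fa9813fa9710fa9684fa9622fa9503fa94e0fa941cfa911afa90d4fa90a3fa88d1fa888bfa885afa870afa86a1fa8654fa8519fa84ccfa8463fa8313fa82e2fa829cfa5681fa5650fa560afa54c8fa5443fa5419fa52c2fa5298fa5213fa50d1fa508bfa505afa3a88fa3a42fa3a11fa3541fa3468fa340dfa3350fa3285fa322afa314afa30a9fa3055fa2ac1fa2a58fa2a0bfa2748fa2645fa2629fa2343fa22e8fa221dfa2159fa20cdfa206bfa1ad0fa1a83fa1a1afa1742fa16a8fa1615fa1558fa14c5fa142bfa1153fa10eafa109dfa0acafa0a99fa0a53fa0751fa068dfa066afa054bfa04e9fa045dfa035afa02d5fa02abf9d888f9d842f9d811f9d501f9d460f9d40cf9d310f9d284f9d222f9d10af9d0a1f9d054f9ca81f9ca50f9ca0af9c548f9c445f9c429f9c342f9c2a8f9c215f9c151f9c08df9c06af9ab08f9aa44f9aa21f9a941f9a868f9a80df9a360f9a305f9a22cf9a14cf9a129f9a065f99b02f99aa0f99a14f99950f99885f9982af99544f99528f99425f99162f99115f990acf98b11f98a8cf9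8a62f9894af988a9f98855f98561f9850df9846cf98354f9832af982a5f958c1f95858f9580bf95708f95644f95621f95303f952e0f9521cf95119f950ccf95063f94ac8f94a43f94a19f94741f94668f9460df94358f942c5f9422bf9414bf940e9f9405df93b01f93a60f93a0cf93948f93845f93829f93344f93328f93225f93161f9310df9306cf91b18f91ac4f91a23f91943f918e8f9181df91760f91705f9162cf9115cf9112bf910e5f90b0bf90ae1f90a5cf90959f908cdf9086bf9074cf90729f90665f90363f9031df902ecf8d8d0f8d883f8d81af8d702f8d6a0f8d614f8d518f8d4c4f8d423f8d113f8d0e2f8d09cf8cac2f8ca98f8ca13f8c750f8c685f8c62af8c543f8c4e8f8c41df8c15af8c0d5f8c0abf8bb10f8ba84f8ba22f8b942f8b8a8f8b815f8b560f8b505f8b42cf8b154f8b12af8b0a5f8ab03f8aae0f8aa1cf8a958f8a8c5f8a82bf8a744f8a728f8a625f8a163f8a11df8a0ecf88b1af88ad4f88aa3f88953f888eaf8889df88762f88715f886acf8855cf8852bf884e5f858caf85899f85853f85711f8568cf85662f8550bf854e1f8545cf8531af852d4f852a3f84ad1f84a8bf84a5af8474af846a9f84655f84559f844cdf8446bf84353f842eaf8429df83b0af83aa1f83a54f83951f8388df8386af8354cf83529f83465f83362f83315f832acf82b19f82accf82a63f8294bf828e9f8285df82761f8270df8266cf8235cf8232bf822e5f81b13f81ae2f81a9cf8195af818d5f818abf81754f8172af816a5f81563f8151df814ec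

theorem chkT : checkT 42 T TW = true := by
  decide +kernel

theorem chkE : checkE T E 360 = true := by
  decide +kernel

theorem card : 360 ≤ Nat.card (Lk 42) :=
  card_ge (checkT_spec (by norm_num) chkT) chkE

end Cfsg.Agent.Lib.A8Code.Std42
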