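import Cfsg.Agent.Lib.A8Climb

set_option autoImplicit false

namespace Cfsg.Agent.Lib.A8Code.Std44

def T : ℕ := 0xfac688fac688fac688fac688fac688fac688fac688fac688fac688fac688fac688fac688fac688fac688fac688fac688fac688fac688fac688fac688fac688fac688fac688fac688fac688fac688fac688fac688fac688fac688fac688fac688fac688fac688fac688f73888fac688fac688fac688fac688fac688fac688fac688faa8c8f744c8fac688fac688fac688fac688fac688fac688f718d0faa318f73460fac688fac688fac688fac688fac688fa88d1fa911afaa223f74681fac688

def TW : ℕ := 0x944900000000000000000000000000000000000000000000000000000000000000000000000000000000000000000000000000000000000000000000000000000000000000000000000000000000000000000000000000000000000000000004a28900000000000000000000928900000000000000000000000000000000000000000000000000000000000000000000000000000000000000000000000000000000000000000000000000000000000000000000000000000000000000000000000a00000000000000000000028a000000000000000000002249000000000000000000000000000000000000000000000000000000000000000000000000000000000000000000000000000000000000000000000000000000000000000000000001000000000000000000000009000000000000000000000049000000000000000000000002000000000000000000000000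

def E : ℕ := 0xfac688fac642fac611fac4c1fac458fac40bfac2d0fac283fac21afac0cafac099fac053fab881fab850fab80afab508fab444fab421fab302fab2a0fab214fab111fab08cfab062faa8c8faa843faa819faa701faa660faa60cfaa318faa2c4faa223faa10bfaa0e1faa05cfa98c2fa9898fa9813fa9710fa9684fa9622fa9503fa94e0fa941cfa911afa90d4fa90a3fa88d1fa888bfa885afa870afa86a1fa8654fa8519fa84ccfa8463fa8313fa82e2fa829cf74681f74650f7460af744c8f74443f74419f742c2f74298f74213f740d1f7408bf7405af73888f73842f73811f73501f73460f7340cf73310f73284f73222f7310af730a1f73054f728c1f72858f7280bf72708f72644f72621f72303f722e0f7221cf72119f720ccf72063f718d0f71883f7181af71702f716a0f71614f71518f714c4f71423f71113f710e2f7109cf708caf70899f70853f70711f7068cf70662f7050bf704e1f7045cf7031af702d4f702a3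

theorem chkT : checkT 44 T TW = true := by
  decide +kernel

theorem chkE : checkE T E 120 = true := by
  decide +kernel

theorem card : 120 ≤ Nat.card (Lk 44) :=
  card_ge (checkT_spec (by norm_num) chkT) chkE

end Cfsg.Agent.Lib.A8Code.Std44
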