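import Cfsg.Agent.Lib.A8Climb

set_option autoImplicit false

namespace Cfsg.Agent.Lib.A8Code.Std46

def T : ℕ := 0xfac688fac688fac688fac688fac688fac688fac688fac688fac688fac688fac688fac688fac688fac688fac688fac688fac688fac688fac688fac688fac688fac688fac688fac688977688b3e688de5688fac688fac688fac688fac688fac688fac688fac688fac688fac688fac688fac688fac688fac6884fe9486b7948f93948dda948dec4c8fac688fac688fac688356ee0467b98bcbd107315785633b8aa3c78fac688fac688fac688fac688fac688fac688fac688fac688fac688fac688

def TW : ℕ := 0x5144a00000000000000000008a28900000000000000000944944900000000000000000000000000000000000000000000000000000000000000000000000000000000000000000000000000000000000000000000000000000000000000000000000000000000000000000000000000000000000000000000000000000000000000000000000000000000000000000000000000000000000000000000000000000000000000000000000000000000000000000000000000000000000000000005124a00000000000000000000a24900000000000000000024944a000000000000000000049289000000000000000000000002000000000000000000000000000000000000000000000000000000000000000000000000000000000000000000000009000000000000000000000049000000000000000000000001000000000000000000001249000000000000000000000289000000000000000000002289000000000000000000000000000000000000000000000000000000000000000000000000000000000000000000000000000000000000000000000000000000000000000000000000000000000000000000000000000000000000000000000000000000000000000000000000000000000000000000000000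

def E : ℕ := 0xfac688fa54c8f9ab08f93948f74650f662d0f59d10f4b990f35458f2e298f11d58f0ab98ef2a60ee9ca0ed6360ecd5a0eb3868ea1ce8e9e328e8c7a8e6b8b0e62af0e5d530e54770dec4c8de5688dda948dd3b08d7c458d67298d51f18d4a9d8d3d650d2f2d0d19f50d0bbd0cfa868ce1ea8cd7328ccc5e8cbba60ca9ee0c9f360c8d7e0c6a8f8c63ab8c5c578c55738bf42d0be6650bd9990bcbd10bbc298ba7458b919d8b8af18b3e688b374c8b1af88b13dc8af98b0ae2e70ad43f0acf530ab18f8aa3c78a9c3b8a8e738a7bca0a72ee0a5f5a0a567e09f52989ee4589d1b989cad589bd2d09af650999bd098bf5097e4c897768895adc8953f888f1ab88eac788d53b88ce5788b9af08abe7089d3f088f77087ace8873ea885e5e88577a87f23607e95a07d6a607cdca07ba3287a15e879786878cea87795307623f0754e7074f8b073157872a3b8715c7870eab86beb086b79486acf886a5dc867dd10674f5066f990666bd05f33285e17a85de8685ccce85bb3605a97e059fa6058dee05717385633b855cc7854e8f853977052b3f051de7050faf04fe9484f7b084ecdc84e5f8847cd58475f1846e9d8467b983eb5303e27703dd8b03d4af03aa7383a357839cab83958f837b5a03727e035fca0356ee033a7a83335e831eea8317ce82fd9902f4bd02efd102e6f502bcb982b59d82aef182a7d58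

theorem chkT : checkT 46 T TW = true := by
  decide +kernel

theorem chkE : checkE T E 168 = true := by
  decide +kernel

theorem card : 168 ≤ Nat.card (Lk 46) :=
  card_ge (checkT_spec (by norm_num) chkT) chkE

end Cfsg.Agent.Lib.A8Code.Std46
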